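import Groth.Agent.Lib.Torelli22.CurveIso

/-!
# Curves with the same image, over any field
-/

set_option autoImplicit false
set_option linter.style.haveILetI false
set_option linter.unusedSectionVars false
set_option backward.isDefEq.respectTransparency false
set_option backward.isDefEq.respectTransparency.types false
set_option maxHeartbeats 1000000

universe u

open CategoryTheory CategoryTheory.Limits AlgebraicGeometry TopologicalSpace Opposite MonoidalCategory
  CartesianMonoidalCategory MonObj

noncomputable section

namespace Groth.Agent.Torelli22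

theorem exists_iso_of_range_subset {X Y Z : Scheme.{u}} [IsIntegral X] [IsIntegral Y] (F : X ⟶ Z) (G : Y ⟶ Z)
    [IsClosedImmersion F] [IsClosedImmersion G] (hX : topologicalKrullDim X = 1) (hY : topologicalKrullDim Y = 1)
    (h : Set.range G.base ⊆ Set.range F.base) : ∃ α : X ≅ Y, α.hom ≫ G = F := by
  have hsurj : ∀ (h' : Y ⟶ X) [IsClosedImmersion h'], Set.range h'.base = Set.univ := by
    intro h' _
    by_contra hn
    have hemb := h'.isClosedEmbedding
    have hlt : ∃ a b : IrreducibleCloseds Y, a < b := by
      by_contra hno
      push Not at hno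
      have : Order.krullDim (IrreducibleCloseds Y) ≤ 0 := Order.krullDim_nonpos_iff_forall_isMax.2 fun a b hab =>
        le_of_eq (by_contra fun hne => hno a b (lt_of_le_of_ne hab (Ne.symm hne)))
      rw [show Order.krullDim (IrreducibleCloseds Y) = 1 from hY] at this
      exact absurd this (by simp)
    obtain ⟨a, b, hab⟩ := hlt
    let im : IrreducibleCloseds Y → IrreducibleCloseds X := fun c =>
      ⟨h'.base '' c, c.2.image _ h'.continuous.continuousOn, hemb.isClosedMap _ c.3⟩
    let top : IrreducibleCloseds X := ⟨Set.univ, IrreducibleSpace.isIrreducible_univ _, isClosed_univ⟩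
    have h01 : im a < im b := lt_of_le_of_ne (Set.image_mono hab.le) fun e =>
      hab.ne (IrreducibleCloseds.ext (hemb.injective.image_injective (congrArg (fun I : IrreducibleCloseds X => (I : Set X)) e)))
    have h12 : im b < top := lt_of_le_of_ne (Set.subset_univ _) fun e =>
      hn (Set.eq_univ_of_univ_subset ((congrArg (fun I : IrreducibleCloseds X => (I : Set X)) e).symm.le.trans
        (Set.image_subset_range _ _)))
    have hl := Order.LTSeries.length_le_krullDim (((RelSeries.singleton _ (im a)).snoc (im b) h01).snoc top (by simpa using h12))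
    rw [show Order.krullDim (IrreducibleCloseds X) = 1 from hX] at hl
    simp at hl
  have hle : F.ker ≤ G.ker := by
    rw [SchImage.ker_eq_vanishingIdeal, SchImage.ker_eq_vanishingIdeal]
    exact Scheme.IdealSheafData.vanishingIdeal_antimono (closure_mono h)
  let h' := IsClosedImmersion.lift F G hle
  have hh : h' ≫ F = G := IsClosedImmersion.lift_fac _ _ hle
  haveI : IsClosedImmersion (h' ≫ F) := hh.symm ▸ ‹IsClosedImmersion G›
  haveI : IsClosedImmersion h' := IsClosedImmersion.of_comp h' F
  have hle' : G.ker ≤ F.ker := by
    rw [SchImage.ker_eq_vanishingIdeal, SchImage.ker_eq_vanishingIdeal]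
    refine Scheme.IdealSheafData.vanishingIdeal_antimono (closure_mono ?_)
    rintro _ ⟨q, rfl⟩
    obtain ⟨p, rfl⟩ := Set.eq_univ_iff_forall.1 (hsurj h') q
    exact ⟨p, by rw [← hh]; rfl⟩
  let f := IsClosedImmersion.lift G F hle'
  have hf : f ≫ G = F := IsClosedImmersion.lift_fac _ _ hle'
  exact ⟨⟨f, h', by rw [← cancel_mono F, Category.assoc, hh, hf, Category.id_comp],
    by rw [← cancel_mono G, Category.assoc, hf, hh, Category.id_comp]⟩, hf⟩

end Groth.Agent.Torelli22
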