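import Groth.Agent.Lib.Torelli22.Combi
import Groth.Agent.Lib.JacPts22.Reflect
import Groth.Agent.Lib.JacPts22.PowerClass
import Groth.Agent.Lib.Riemann22.Theta
import Groth.Agent.Lib.Riemann22.Locus

/-!
# The system of sets of points attached to a curve in its Jacobian
-/

set_option autoImplicit false
set_option linter.style.haveILetI false
set_option linter.unusedSectionVars false
set_option backward.isDefEq.respectTransparency false
set_option backward.isDefEq.respectTransparency.types false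
set_option maxHeartbeats 1000000

universe u

open CategoryTheory CategoryTheory.Limits AlgebraicGeometry TopologicalSpace Opposite MonoidalCategory
  CartesianMonoidalCategory MonObj

noncomputable section

namespace Groth.Agent.Torelli22

open Groth.Agent.JacPts22 Groth.Agent.CurvePts22

noncomputable local instance instLawTorelliSystem (Y : Scheme.{u}) : PicGrp.Law Y := M2.law Y

variable {k : Type u} [Field k] [IsAlgClosed k]

/-- Closed sets of points. -/
def ClPts (J : Over (Spec (CommRingCat.of k))) (F : Set (𝟙_ (Over (Spec (CommRingCat.of k))) ⟶ J)) : Prop :=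
  ∃ Z : Set J.left, IsClosed Z ∧ ∀ z, z ∈ F ↔ pt z.left ∈ Z

theorem clPts_preimage {J J' : Over (Spec (CommRingCat.of k))} (f : J ⟶ J') {F} (h : ClPts J' F) :
    ClPts J {z | z ≫ f ∈ F} :=
  let ⟨Z, hZ, hF⟩ := h
  ⟨f.left.base ⁻¹' Z, hZ.preimage f.left.continuous, fun z => hF (z ≫ f)⟩

theorem clPts_inv {J : Over (Spec (CommRingCat.of k))} [GrpObj J] {F} (h : ClPts J F) :
    ClPts J {z | z⁻¹ ∈ F} := by
  have := clPts_preimage (𝟙 J)⁻¹ h
  simp only [GrpObj.comp_inv, Category.comp_id] at this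
  exact this

variable {C : Scheme.{u}} [C.Over (Spec (CommRingCat.of k))]
  [IsProper (C ↘ Spec (CommRingCat.of k))] [Smooth (C ↘ Spec (CommRingCat.of k))]
  [GeometricallyConnected (C ↘ Spec (CommRingCat.of k))] [IsIntegral C]
  {J : Over (Spec (CommRingCat.of k))} [GrpObj J] [IsCommMonObj J] [IsSeparated J.hom]
  (hdim : topologicalKrullDim C = 1) (σ : Spec (CommRingCat.of k) ⟶ C)
  (hσ : σ ≫ (C ↘ Spec (CommRingCat.of k)) = 𝟙 _)
  (ψ : (ModFun.PicDeg (C ↘ Spec (CommRingCat.of k)) 0).Hom ⊤ J)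
  (hJ : Jac.IsJacobian (C ↘ Spec (CommRingCat.of k)) ⊤ J ψ) (j : Over.mk (C ↘ Spec (CommRingCat.of k)) ⟶ J)
  (hj : Jac.IsAbelJacobiAt (C ↘ Spec (CommRingCat.of k)) σ ψ j) {g : ℕ} (hg : Curv2.genus k C = g) (hg2 : 2 ≤ g)

include hdim hσ hJ hj hg hg2

theorem exists_sys : ∃ S : Sys (ClPts J) g, ∀ n z, z ∈ S.W n ↔ pt z.left ∈ Set.range (sumMap j n).left.base := by
  haveI : GeometricallyIntegral (C ↘ Spec (CommRingCat.of k)) := PicSep22.geometricallyIntegral_of_smooth _
  let x₀ : Pts k C := ⟨σ, hσ⟩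
  let cn := fun n z => cN hdim σ hσ ψ hJ n z
  have hdeg : ∀ n z, degC k (cn n z) = n := fun n z => degC_cN hdim σ hσ ψ hJ n z
  have hmem : ∀ n z, pt z.left ∈ Set.range (sumMap j n).left.base ↔ Eff (k := k) hdim n (cn n z) := fun n z =>
    pt_mem_sum hdim σ hσ ψ hJ j hj z
  have hmul : ∀ {m n l : ℕ} (_ : m + n = l) z t, cn l (z * t) = cn m z * cn n t := fun hl z t =>
    cN_mul hdim σ hσ hl z t
  have hpos : ∀ n z, 0 < h0C k (cn n z) → Eff (k := k) hdim n (cn n z) := fun n z h =>
    eff_of_h0_pos hdim _ _ (hdeg n z) h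
  obtain ⟨κ, hκ⟩ := Riemann22.exists_iota hdim hJ hσ j hj (KC (k := k) hdim * P hdim x₀ ^ (2 * g - 2)) (by
    rw [degC_mul hdim, degC_pow hdim, degC_P hdim, degC_KC hdim, hg, Nat.cast_sub (by omega)]
    push_cast
    ring)
  have hK : cn (2 * g - 2) κ = KC (k := k) hdim := by
    show cN hdim σ hσ ψ hJ _ κ = _
    rw [cN, hκ, mul_inv_cancel_right]
  refine ⟨{
    W := fun n => {z | pt z.left ∈ Set.range (sumMap j n).left.base}
    kap := κ
    one := fun n => (hmem n 1).2 ⟨fun _ => x₀, by simp [cn, cN, x₀]⟩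
    mul := fun {m n z t} hz ht => (hmem _ _).2 ?_
    sub_iff := ?_
    symm := ?_
    inter := ?_
    div := ?_
    infinite := ?_
    cl := fun n c => ⟨(Jac.transl J c).left.base ⁻¹' Set.range (sumMap j n).left.base,
      (isClosed_range _).preimage (Jac.transl J c).left.continuous, fun z => by
        rw [Set.mem_ofPred_eq, Set.mem_ofPred_eq, ← point_comp_transl]
        rfl⟩
    irr := ?_ }, fun n z => Iff.rfl⟩
  · rw [hmul rfl]
    exact ((hmem _ _).1 hz).mul hdim ((hmem _ _).1 ht) rfl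
  · intro r hr t
    simp only [Set.mem_ofPred_eq, hmem]
    exact forall_eff_iff hdim σ hσ ψ hJ j hj hg (by omega) hr t
  · intro z
    simp only [Set.mem_ofPred_eq, hmem]
    have e : cn (g - 1) (κ * z⁻¹) = KC (k := k) hdim * (cn (g - 1) z)⁻¹ := by
      rw [eq_mul_inv_iff_mul_eq, ← hmul (show g - 1 + (g - 1) = 2 * g - 2 by omega), inv_mul_cancel_right, hK]
    have h := rr hdim x₀ (cn (g - 1) z)
    rw [hdeg, hg, ← e, Nat.cast_sub (by omega : 1 ≤ g)] at h
    constructor <;> intro h' <;> refine hpos _ _ ?_ <;> have := h'.h0_pos hdim x₀ <;> omega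
  · intro r hr x hx y hy u hu h
    simp only [Set.mem_ofPred_eq, hmem] at hx hy hu h ⊢
    obtain ⟨X, hX⟩ := hx
    simp only [Fin.prod_univ_one] at hX
    have hc : degC k (cn (r + 1) u * cn (g - 1 - r) y) = g := by
      rw [degC_mul hdim, hdeg, hdeg]; omega
    have e : ∀ x' (Q : Pts k C), cn 1 x' = (P hdim Q)⁻¹ →
        cn (g - 1) (u * (x'⁻¹ * y)) = cn (r + 1) u * cn (g - 1 - r) y * P hdim Q := fun x' Q hQ => by
      rw [← hmul (show r + 1 + (g - 1 - r) = g by omega), ← mul_inv_eq_iff_eq_mul, ← hQ,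
        ← hmul (show g - 1 + 1 = g by omega)]
      congr 1
      rw [_root_.mul_assoc, _root_.mul_assoc, _root_.mul_left_comm x'⁻¹, inv_mul_cancel, _root_.mul_one]
    by_cases h2 : 2 ≤ h0C k (cn (r + 1) u * cn (g - 1 - r) y)
    · refine Or.inr (Or.inr fun x' hx' => ?_)
      obtain ⟨Q, hQ⟩ := hx'
      simp only [Fin.prod_univ_one] at hQ
      refine hpos _ _ ?_
      rw [e x' (Q 0) hQ]
      have := h0C_le_mul_P hdim (cn (r + 1) u * cn (g - 1 - r) y) (Q 0)
      omega
    have hbad : ¬ Good (X 0) (cn (r + 1) u * cn (g - 1 - r) y) := fun hG => by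
      have h1 := h0C_drop hdim hG
      have h3 := h.h0_pos hdim x₀
      rw [e x (X 0) hX] at h3
      omega
    obtain ⟨E, hE⟩ := hu
    obtain ⟨Y, hY⟩ := hy
    by_cases hmE : ∃ i, X 0 = E i
    · obtain ⟨i, hi⟩ := hmE
      refine Or.inr (Or.inl ⟨E ∘ i.succAbove, mul_right_cancel (b := cn 1 x) ?_⟩)
      rw [← hmul rfl, inv_mul_cancel_right, hE, hX, hi, Fin.prod_univ_succAbove _ i, mul_inv, _root_.mul_comm]
      rfl
    obtain ⟨i, hi⟩ : ∃ i, X 0 = Y i := by
      by_contra hne
      push Not at hne hmE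
      refine hbad ?_
      rw [hE, hY]
      exact (good_eff hdim (by omega) _ E hmE).mul hdim (good_eff hdim (by omega) _ Y hne)
    obtain ⟨m, hm⟩ : ∃ m, g - 1 - r = m + 1 := ⟨g - 2 - r, by omega⟩
    refine Or.inl fun u' hu' => ?_
    have hxy : Eff (k := k) hdim m (cn m (x⁻¹ * y)) := by
      refine ⟨(Y ∘ Fin.cast hm.symm) ∘ (Fin.cast hm i).succAbove, mul_right_cancel (b := cn 1 x) ?_⟩
      rw [← hmul hm.symm, _root_.mul_right_comm, inv_mul_cancel, _root_.one_mul, hY, hX, hi,
        ← (finCongr hm.symm).prod_comp, Fin.prod_univ_succAbove _ (Fin.cast hm i), mul_inv, _root_.mul_comm]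
      simp
    rw [hmul (show r + 1 + m = g - 1 by omega)]
    exact hu'.mul hdim hxy (by omega)
  · intro e he
    simp only [Set.mem_ofPred_eq, hmem] at he ⊢
    have hm : ∀ z, cn (g - 1) (z * e) = cn 1 z * cn (g - 2) e := fun z => hmul (by omega) z e
    have h0 : h0C k (cn (g - 2) e) = 0 := by
      by_contra h
      exact he fun z hz => by
        rw [hm]
        exact hz.mul hdim (hpos _ _ (Nat.pos_of_ne_zero h)) (by omega)
    have eD : cn g (κ * e⁻¹) = KC (k := k) hdim * (cn (g - 2) e)⁻¹ := by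
      rw [eq_mul_inv_iff_mul_eq, ← hmul (show g + (g - 2) = 2 * g - 2 by omega), inv_mul_cancel_right, hK]
    have h1 : h0C k (cn g (κ * e⁻¹)) = 1 := by
      have h := rr hdim x₀ (cn (g - 2) e)
      rw [hdeg, hg, ← eD, h0, Nat.cast_sub hg2] at h
      omega
    obtain ⟨Q, hQ⟩ := hpos g (κ * e⁻¹) (by omega)
    let D : Fin g → (𝟙_ (Over (Spec (CommRingCat.of k))) ⟶ J) := fun i => mkPt (fun _ : Fin 1 => Q i) ≫ sumMap j 1
    have hD : ∀ i, cn 1 (D i) = (P hdim (Q i))⁻¹ := fun i => by
      show cN hdim σ hσ ψ hJ 1 _ = _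
      rw [cN_sum hdim σ hσ ψ hJ j hj]
      simp [coord_mkPt]
    have hinj : ∀ z z', cn 1 z = cn 1 z' → z = z' := fun z z' h =>
      iota_injective hdim J ψ hJ (mul_right_cancel h)
    refine ⟨D, fun i => ⟨fun _ => Q i, by simpa using hD i⟩, iota_injective hdim J ψ hJ ?_, fun z hz => ?_⟩
    · rw [iota_eq hdim σ hσ ψ hJ g (κ * e⁻¹), show cN hdim σ hσ ψ hJ g _ = _ from hQ, map_prod,
        Finset.prod_congr rfl fun i _ => (iota_eq hdim σ hσ ψ hJ 1 (D i)).trans
          (congrArg (· * _) (hD i)), Finset.prod_mul_distrib, Finset.prod_const, Finset.card_univ, Fintype.card_fin,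
        pow_one, Finset.prod_inv_distrib]
    obtain ⟨Z, hZ⟩ := hz
    simp only [Fin.prod_univ_one] at hZ
    have hr := rr hdim x₀ ((P hdim (Z 0))⁻¹ * cn (g - 2) e)
    rw [degC_mul hdim, degC_inv hdim, degC_P hdim, hdeg, hg, Nat.cast_sub hg2, mul_inv, inv_inv,
      _root_.mul_comm (P hdim (Z 0)), ← _root_.mul_assoc, ← eD] at hr
    constructor
    · intro hze
      have h2 := hze.h0_pos hdim x₀
      rw [hm, hZ] at h2
      by_contra hne
      push Not at hne
      have hG : Good (Z 0) (cn g (κ * e⁻¹)) := by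
        rw [hQ]
        exact good_eff hdim (by omega) _ Q fun i hi => hne i (hinj _ _ (by rw [hZ, hD, hi]))
      have := h0C_drop hdim hG
      omega
    · rintro ⟨i, rfl⟩
      obtain ⟨m, rfl⟩ : ∃ m, g = m + 1 := ⟨g - 1, by omega⟩
      have hPQ : P hdim (Q i) = P hdim (Z 0) := inv_injective ((hD i).symm.trans hZ)
      have hE : Eff (k := k) hdim m (cn (m + 1) (κ * e⁻¹) * P hdim (Z 0)) := by
        refine ⟨Q ∘ i.succAbove, ?_⟩
        rw [hQ, Fin.prod_univ_succAbove _ i, mul_inv, hPQ, _root_.mul_right_comm, inv_mul_cancel, _root_.one_mul]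
        rfl
      refine hpos _ _ ?_
      rw [hm, hZ]
      have h2 := hE.h0_pos hdim x₀
      omega
  · intro hfin
    obtain ⟨c, d, hcd⟩ := Riemann22.exists_two_points (k := k) (C := C) hdim
    haveI : GeometricallyIntegral (pw k C 1).hom := geometricallyIntegral_pw 1
    haveI : IsIntegral (pw k C 1).left := GeometricallyIntegral.isIntegral_of_subsingleton (pw k C 1).hom
    haveI : Finite {z : 𝟙_ (Over (Spec (CommRingCat.of k))) ⟶ J // pt z.left ∈ Set.range (sumMap j 1).left.base} := hfin.to_subtype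
    haveI := Fintype.ofFinite {z : 𝟙_ (Over (Spec (CommRingCat.of k))) ⟶ J // pt z.left ∈ Set.range (sumMap j 1).left.base}
    classical
    haveI : Nonempty (pw k C 1).left := inferInstance
    obtain ⟨i, hi⟩ : ∃ i : {z : 𝟙_ (Over (Spec (CommRingCat.of k))) ⟶ J // pt z.left ∈ Set.range (sumMap j 1).left.base}, Set.range (sumMap j 1).left.base ⊆ {pt i.1.left} := by
      have hcl : ∀ i : {z : 𝟙_ (Over (Spec (CommRingCat.of k))) ⟶ J // pt z.left ∈ Set.range (sumMap j 1).left.base}, IsClosed ({pt i.1.left} : Set J.left) :=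
        fun i => by
          letI : J.left.Over (Spec (CommRingCat.of k)) := ⟨J.hom⟩
          haveI : IsSeparated (J.left ↘ Spec (CommRingCat.of k)) := ‹IsSeparated J.hom›
          haveI := isClosedImmersion_of_section i.1.left (Over.w i.1)
          rw [← range_eq i.1.left]
          exact i.1.left.isClosedEmbedding.isClosed_range
      have h := range_subset (sumMap j 1) (T := ⋃ i : {z : 𝟙_ (Over (Spec (CommRingCat.of k))) ⟶ J // pt z.left ∈ Set.range (sumMap j 1).left.base}, ({pt i.1.left} : Set J.left)) (isClosed_iUnion_of_finite hcl) fun x =>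
        Set.mem_iUnion.2 ⟨⟨_, pt_comp_mem (sumMap j 1) x⟩, rfl⟩
      obtain ⟨t, ht', ht⟩ := isIrreducible_iff_sUnion_isClosed.1
        ((IrreducibleSpace.isIrreducible_univ (X := (pw k C 1).left)).image _ (sumMap j 1).left.continuous.continuousOn)
        (Finset.univ.image fun i : {z : 𝟙_ (Over (Spec (CommRingCat.of k))) ⟶ J // pt z.left ∈ Set.range (sumMap j 1).left.base} => ({pt i.1.left} : Set J.left))
        (fun t ht => by obtain ⟨i, -, rfl⟩ := Finset.mem_image.1 ht; exact hcl i) (by simpa [Set.image_univ] using h)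
      obtain ⟨i, -, rfl⟩ := Finset.mem_image.1 ht'
      exact ⟨i, by simpa [Set.image_univ] using ht⟩
    have hone : ∀ z, pt z.left ∈ Set.range (sumMap j 1).left.base → z = i.1 := fun z hz =>
      Over.OverMorphism.ext (JacPts22.ext_of_pt_eq J.hom (Over.w z) (Over.w i.1) (hi hz))
    refine hcd (Over.OverMorphism.ext (congrArg Subtype.val (P_injective hdim (by omega)
      (x := (⟨c.left, Over.w c⟩ : Pts k C)) (y := ⟨d.left, Over.w d⟩) ?_)))
    have hp : ∀ Q : Pts k C, mkPt (fun _ : Fin 1 => Q) ≫ sumMap j 1 = i.1 := fun Q => hone _ (pt_comp_mem _ _)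
    have h := congrArg (cn 1) ((hp ⟨c.left, Over.w c⟩).trans (hp ⟨d.left, Over.w d⟩).symm)
    simpa [cn, cN_sum hdim σ hσ ψ hJ j hj, coord_mkPt] using h
  · intro n I _ F hF hcov
    choose Z hZ hFZ using hF
    haveI : GeometricallyIntegral (pw k C n).hom := geometricallyIntegral_pw n
    haveI : IsIntegral (pw k C n).left := GeometricallyIntegral.isIntegral_of_subsingleton (pw k C n).hom
    have h := range_subset (sumMap j n) (T := ⋃ i, Z i) (isClosed_iUnion_of_finite hZ) fun x =>
      let ⟨i, hi⟩ := hcov _ (pt_comp_mem (sumMap j n) x)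
      Set.mem_iUnion.2 ⟨i, (hFZ i _).1 hi⟩
    haveI := Fintype.ofFinite I
    classical
    obtain ⟨t, ht', ht⟩ := isIrreducible_iff_sUnion_isClosed.1
      ((IrreducibleSpace.isIrreducible_univ (X := (pw k C n).left)).image _ (sumMap j n).left.continuous.continuousOn)
      (Finset.univ.image Z) (by simpa using fun i => hZ i) (by simpa [Set.image_univ] using h)
    obtain ⟨i, -, rfl⟩ := Finset.mem_image.1 ht'
    exact ⟨i, fun z hz => (hFZ i z).2 (ht (by simpa [Set.image_univ] using hz))⟩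

end Groth.Agent.Torelli22
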