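import Mathlib

/-!
# The combinatorial core of Torelli's theorem

The Martens–Weil argument, carried out inside the group of points of the Jacobian.
-/

set_option autoImplicit false
set_option linter.unusedSectionVars false
set_option linter.unusedSimpArgs false

noncomputable section

namespace Groth.Agent.Torelli22

open scoped Classical

universe v

variable {A : Type v} [CommGroup A] (Cl : Set A → Prop) (g : ℕ)

/-- The properties of the images `W r` of the symmetric powers of a curve in its Jacobian. -/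
structure Sys where
  W : ℕ → Set A
  kap : A
  one : ∀ n, (1 : A) ∈ W n
  mul : ∀ {m n z t}, z ∈ W m → t ∈ W n → z * t ∈ W (m + n)
  sub_iff : ∀ r, r ≤ g - 1 → ∀ t, (∀ z ∈ W r, z * t ∈ W (g - 1)) ↔ t ∈ W (g - 1 - r)
  symm : ∀ z, z ∈ W (g - 1) ↔ kap * z⁻¹ ∈ W (g - 1)
  inter : ∀ r, r ≤ g - 2 → ∀ x ∈ W 1, ∀ y ∈ W (g - 1 - r), ∀ u ∈ W (r + 1), u * (x⁻¹ * y) ∈ W (g - 1) →
    (∀ u' ∈ W (r + 1), u' * (x⁻¹ * y) ∈ W (g - 1)) ∨ u * x⁻¹ ∈ W r ∨ ∀ x' ∈ W 1, u * (x'⁻¹ * y) ∈ W (g - 1)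
  div : ∀ e, ¬ (∀ z ∈ W 1, z * e ∈ W (g - 1)) → ∃ D : Fin g → A, (∀ i, D i ∈ W 1) ∧ ∏ i, D i = kap * e⁻¹ ∧
    ∀ z ∈ W 1, (z * e ∈ W (g - 1) ↔ ∃ i, z = D i)
  infinite : (W 1).Infinite
  cl : ∀ n c, Cl {y | y * c ∈ W n}
  irr : ∀ n (ι : Type v) [Finite ι] (F : ι → Set A), (∀ i, Cl (F i)) → (∀ z ∈ W n, ∃ i, z ∈ F i) →
    ∃ i, W n ⊆ F i

namespace Sys

variable {Cl} {g}

theorem mono (S : Sys Cl g) {m n : ℕ} (h : m ≤ n) : S.W m ⊆ S.W n := fun z hz => by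
  obtain ⟨d, rfl⟩ := Nat.exists_eq_add_of_le h
  simpa using S.mul hz (S.one d)

theorem prod_mem (S : Sys Cl g) {ι : Type*} (s : Finset ι) (f : ι → A) (h : ∀ i ∈ s, f i ∈ S.W 1) :
    ∏ i ∈ s, f i ∈ S.W s.card := by
  induction s using Finset.induction with
  | empty => simpa using S.one 0
  | insert a s ha ih =>
    rw [Finset.prod_insert ha, Finset.card_insert_of_notMem ha, add_comm]
    exact S.mul (h a (Finset.mem_insert_self _ _)) (ih fun i hi => h i (Finset.mem_insert_of_mem hi))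

/-- The system of the inverse sets. -/
def inv (S : Sys Cl g) (hinv : ∀ F, Cl F → Cl {y | y⁻¹ ∈ F}) : Sys Cl g where
  W n := {y | y⁻¹ ∈ S.W n}
  kap := S.kap⁻¹
  one n := by simpa using S.one n
  mul {m n z t} hz ht := by
    show (z * t)⁻¹ ∈ S.W (m + n)
    rw [mul_inv]
    exact S.mul hz ht
  sub_iff r hr t := by
    refine Iff.trans ⟨fun h z hz => ?_, fun h z hz => ?_⟩ (S.sub_iff r hr t⁻¹)
    · simpa [mul_comm] using h z⁻¹ (by simpa using hz)
    · show (z * t)⁻¹ ∈ S.W (g - 1)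
      rw [mul_inv]
      exact h _ hz
  symm z := by
    show z⁻¹ ∈ S.W (g - 1) ↔ (S.kap⁻¹ * z⁻¹)⁻¹ ∈ S.W (g - 1)
    rw [mul_inv, inv_inv, inv_inv, S.symm z⁻¹, inv_inv]
  inter r hr x hx y hy u hu h := by
    have h' : u⁻¹ * (x⁻¹⁻¹ * y⁻¹) ∈ S.W (g - 1) := by
      rw [← mul_inv, ← mul_inv]
      exact h
    rcases S.inter r hr _ hx _ hy _ hu h' with h1 | h1 | h1
    · refine Or.inl fun u' hu' => ?_
      have := h1 _ hu'
      rw [← mul_inv, ← mul_inv] at this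
      exact this
    · refine Or.inr (Or.inl ?_)
      rw [← mul_inv] at h1
      exact h1
    · refine Or.inr (Or.inr fun x' hx' => ?_)
      have := h1 _ hx'
      rw [← mul_inv, ← mul_inv] at this
      exact this
  div e he := by
    obtain ⟨D, hD1, hD2, hD3⟩ := S.div e⁻¹ fun h => he fun z hz => by
      show (z * e)⁻¹ ∈ S.W (g - 1)
      rw [mul_inv]
      exact h _ hz
    refine ⟨fun i => (D i)⁻¹, fun i => by simpa using hD1 i, ?_, fun z hz => ?_⟩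
    · rw [Finset.prod_inv_distrib, hD2, mul_inv, inv_inv]
    · show (z * e)⁻¹ ∈ S.W (g - 1) ↔ _
      rw [mul_inv, hD3 _ hz]
      exact exists_congr fun i => inv_eq_iff_eq_inv
  infinite := S.infinite.preimage (by simp [inv_surjective.range_eq])
  cl n c := by
    convert hinv _ (S.cl n c⁻¹) using 1
    ext y
    show (y * c)⁻¹ ∈ S.W n ↔ y⁻¹ * c⁻¹ ∈ S.W n
    rw [mul_inv]
  irr n ι _ F hF hcov := by
    obtain ⟨i, hi⟩ := S.irr n ι (fun i => {y | y⁻¹ ∈ F i}) (fun i => hinv _ (hF i)) fun z hz =>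
      hcov z⁻¹ (by simpa using hz)
    exact ⟨i, fun z hz => by simpa using hi hz⟩

end Sys

variable {Cl} {g}

/-- A translate of `T.W 1` lies in `S.W (r + 1)`. -/
def SubTr (S T : Sys Cl g) (r : ℕ) : Prop := ∃ a, ∀ z ∈ T.W 1, z * a ∈ S.W (r + 1)

/-- A translate of the inverse of `T.W 1` lies in `S.W (r + 1)`. -/
def SubTrInv (S T : Sys Cl g) (r : ℕ) : Prop := ∃ a, ∀ z ∈ T.W 1, z⁻¹ * a ∈ S.W (r + 1)

theorem few (S T : Sys Cl g) {c : A} (hc : ∀ z, z ∈ S.W (g - 1) ↔ z * c ∈ T.W (g - 1)) {s : ℕ} (hs : s ≤ g - 1)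
    (e : A) (hn : ¬ ∀ z ∈ T.W 1, z * e ∈ S.W s) :
    ∃ D : Fin g → A, ∀ z ∈ T.W 1, z * e ∈ S.W s → ∃ i, z = D i := by
  push Not at hn
  obtain ⟨z₀, hz₀, hz₀'⟩ := hn
  have hn' : ¬ ∀ t ∈ S.W (g - 1 - s), t * (z₀ * e) ∈ S.W (g - 1) := fun h => hz₀' (by
    have := (S.sub_iff (g - 1 - s) (Nat.sub_le _ _) _).1 h
    rwa [Nat.sub_sub_self hs] at this)
  push Not at hn'
  obtain ⟨t, ht, ht'⟩ := hn'
  obtain ⟨D, -, -, hD⟩ := T.div (t * e * c) fun h => ht' ((hc _).2 (by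
    have := h z₀ hz₀
    convert this using 1
    rw [mul_left_comm t z₀ e]
    simp only [mul_assoc]))
  refine ⟨D, fun z hz hze => (hD z hz).1 ?_⟩
  have h1 := (hc _).1 ((Nat.sub_add_cancel hs) ▸ S.mul ht hze)
  convert h1 using 1
  rw [mul_left_comm t z e]
  simp only [mul_assoc]

theorem core (hinv : ∀ F, Cl F → Cl {y | y⁻¹ ∈ F}) (S T : Sys Cl g) {c : A}
    (hc : ∀ z, z ∈ T.W (g - 1) ↔ z * c ∈ S.W (g - 1)) {r : ℕ} (hr1 : 1 ≤ r) (hr : r ≤ g - 2)
    (hP : SubTr S T r) (hn1 : ¬ SubTr T S (r - 1)) (hn2 : ¬ SubTr S T (r - 1)) (hn3 : ¬ SubTrInv S T (r - 1)) :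
    False := by
  have hc' : ∀ z, z ∈ S.W (g - 1) ↔ z * c⁻¹ ∈ T.W (g - 1) := fun z => by
    rw [hc, inv_mul_cancel_right]
  have hr' : r - 1 + 1 = r := Nat.sub_add_cancel hr1
  obtain ⟨a, ha⟩ := hP
  have n1 : ∀ e, ¬ ∀ z ∈ S.W 1, z * e ∈ T.W r := fun e h => hn1 ⟨e, by rwa [hr']⟩
  have n2 : ∀ e, ¬ ∀ z ∈ T.W 1, z * e ∈ S.W r := fun e h => hn2 ⟨e, by rwa [hr']⟩
  -- the translates of the theta divisor containing `T.W 1`
  let Bad : A → A → Prop := fun x y => ∀ v ∈ T.W 1, v * (a * x⁻¹ * y) ∈ S.W (g - 1)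
  have hBad : ∀ x y, Bad x y ↔ y * (a * x⁻¹ * c⁻¹) ∈ T.W (g - 2) := fun x y => by
    have h1 : y * (a * x⁻¹ * c⁻¹) = a * x⁻¹ * y * c⁻¹ := by
      simp only [mul_comm, mul_left_comm, mul_assoc]
    rw [h1, show g - 2 = g - 1 - 1 by omega, ← T.sub_iff 1 (by omega)]
    refine forall₂_congr fun v _ => ?_
    rw [hc', mul_assoc v]
  have hnotall : ∀ x, ¬ ∀ y ∈ S.W (g - 1 - r), Bad x y := fun x h => n2 (a * x⁻¹) fun v hv => by
    have h1 : ∀ y ∈ S.W (g - 1 - r), y * (v * (a * x⁻¹)) ∈ S.W (g - 1) := fun y hy => by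
      have := h y hy v hv
      convert this using 1
      simp only [mul_comm, mul_left_comm, mul_assoc]
    have := (S.sub_iff (g - 1 - r) (Nat.sub_le _ _) _).1 h1
    rwa [Nat.sub_sub_self (show r ≤ g - 1 by omega)] at this
  have hDx : ∀ x, ∃ D : Fin g → A, ∀ z ∈ T.W 1, z * (a * x⁻¹) ∈ S.W r → ∃ i, z = D i := fun x =>
    few S T hc' (by omega) _ (n2 _)
  choose Dx hDx using hDx
  have hF : ∀ e, ∃ D : Fin g → A, ∀ z ∈ S.W 1, z * e ∈ T.W r → ∃ i, z = D i := fun e =>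
    few T S hc (by omega) _ (n1 e)
  choose F hF using hF
  -- enough points on the first curve
  obtain ⟨X, hX, hXcard⟩ := S.infinite.exists_subset_card_eq
    (Fintype.card ((Finset (Fin g) × (Fin g → Fin g)) × Fin g) + 1)
  let cT : A → A := fun x => T.kap * c * a⁻¹ * x
  let Fam : {x // x ∈ X} ⊕ ({x // x ∈ X} × (Fin (r + 1) → Fin g)) → Set A := Sum.elim
    (fun x => {y | y * (a * x.1⁻¹ * c⁻¹) ∈ T.W (g - 2)})
    (fun p => {y | y⁻¹ * (cT p.1.1 * (∏ i, Dx p.1.1 (p.2 i))⁻¹) ∈ T.W (g - 1 - r)})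
  have hsize : ∀ (s : {x // x ∈ X}), (s : A) ∈ S.W 1 := fun s => hX s.2
  have hcov : ∀ y ∈ S.W (g - 1 - r), ∃ i, y ∈ Fam i := by
    intro y hy
    by_cases hb : ∃ x ∈ X, Bad x y
    · obtain ⟨x, hx, hxb⟩ := hb
      exact ⟨Sum.inl ⟨x, hx⟩, (hBad x y).1 hxb⟩
    push Not at hb
    have hdiv : ∀ x ∈ X, ∃ D : Fin g → A, (∀ i, D i ∈ T.W 1) ∧ ∏ i, D i = cT x * y⁻¹ ∧
        ∀ z ∈ T.W 1, (z * (a * x⁻¹ * y) ∈ S.W (g - 1) ↔ ∃ i, z = D i) := fun x hx => by
      obtain ⟨D, h1, h2, h3⟩ := T.div (a * x⁻¹ * y * c⁻¹) fun h => hb x hx fun v hv => by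
        rw [hc', mul_assoc v]
        exact h v hv
      refine ⟨D, h1, h2.trans ?_, fun z hz => ?_⟩
      · simp only [cT, mul_inv, inv_inv]
        simp only [mul_comm, mul_left_comm, mul_assoc]
      · rw [hc', mul_assoc z]
        exact h3 z hz
    choose D hD1 hD2 hD3 using hdiv
    obtain ⟨x₀, hx₀⟩ : X.Nonempty := Finset.card_pos.1 (by omega)
    -- each point of a divisor is of one of the two kinds
    have hkind : ∀ x (hx : x ∈ X) i, (∃ l, D x hx i = Dx x l) ∨ ∃ l, D x hx i = D x₀ hx₀ l := by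
      intro x hx i
      have hv := hD1 x hx i
      have hu := ha _ hv
      have h1 : D x hx i * a * (x⁻¹ * y) ∈ S.W (g - 1) := by
        have := (hD3 x hx _ hv).2 ⟨i, rfl⟩
        convert this using 1
        simp only [mul_assoc]
      rcases S.inter r hr x (hX hx) y hy _ hu h1 with h | h | h
      · refine absurd (fun v hv' => ?_) (hb x hx)
        have := h _ (ha v hv')
        convert this using 1
        simp only [mul_assoc]
      · exact Or.inl (hDx x _ hv (by rwa [mul_assoc] at h))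
      · refine Or.inr ((hD3 x₀ hx₀ _ hv).1 ?_)
        have := h x₀ (hX hx₀)
        convert this using 1
        simp only [mul_assoc]
    -- some divisor has more than `r` points of the first kind
    obtain ⟨x, hx, hcard⟩ : ∃ x, ∃ hx : x ∈ X, r + 1 ≤ (Finset.univ.filter fun i => ∃ l, D x hx i = Dx x l).card := by
      by_contra hno
      push Not at hno
      have hval : ∀ x : {x // x ∈ X}, ∃ p : (Finset (Fin g) × (Fin g → Fin g)) × Fin g,
          (x : A) = F (T.kap * c * a⁻¹ * y⁻¹ * (∏ i ∈ p.1.1, D x₀ hx₀ (p.1.2 i))⁻¹) p.2 := by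
        rintro ⟨x, hx⟩
        let K := Finset.univ.filter fun i => ¬ ∃ l, D x hx i = Dx x l
        have hK : ∀ i, ∃ l, i ∈ K → D x hx i = D x₀ hx₀ l := fun i => by
          by_cases hi : i ∈ K
          · obtain ⟨l, hl⟩ := (hkind x hx i).resolve_left (Finset.mem_filter.1 hi).2
            exact ⟨l, fun _ => hl⟩
          · exact ⟨i, fun h => absurd h hi⟩
        choose f hf using hK
        have h1 : ∏ i ∈ Finset.univ.filter (fun i => ∃ l, D x hx i = Dx x l), D x hx i ∈ T.W r :=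
          T.mono (Nat.lt_succ_iff.1 (hno x hx)) (T.prod_mem _ _ fun i _ => hD1 x hx i)
        have h2 := Finset.prod_filter_mul_prod_filter_not Finset.univ (fun i => ∃ l, D x hx i = Dx x l) (D x hx)
        rw [hD2, Finset.prod_congr rfl hf] at h2
        rw [eq_mul_inv_of_mul_eq h2] at h1
        obtain ⟨l, hl⟩ := hF (T.kap * c * a⁻¹ * y⁻¹ * (∏ i ∈ K, D x₀ hx₀ (f i))⁻¹) x (hX hx) (by
          convert h1 using 1
          simp only [cT, mul_comm, mul_left_comm, mul_assoc])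
        exact ⟨((K, f), l), hl⟩
      choose p hp using hval
      have hinj : Function.Injective p := fun x x' h => Subtype.ext (by rw [hp x, hp x', h])
      have := Fintype.card_le_of_injective p hinj
      rw [Fintype.card_coe, hXcard] at this
      omega
    obtain ⟨s, hs, hscard⟩ := Finset.exists_subset_card_eq hcard
    let e := s.equivFinOfCardEq hscard
    have hl : ∀ i : Fin (r + 1), ∃ l, D x hx (e.symm i).1 = Dx x l := fun i =>
      (Finset.mem_filter.1 (hs (e.symm i).2)).2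
    choose f hf using hl
    refine ⟨Sum.inr (⟨x, hx⟩, f), ?_⟩
    show y⁻¹ * (cT x * (∏ i, Dx x (f i))⁻¹) ∈ T.W (g - 1 - r)
    have h1 := T.prod_mem sᶜ (D x hx) fun i _ => hD1 x hx i
    rw [Finset.card_compl, Fintype.card_fin, hscard] at h1
    have h2 : ∏ i, Dx x (f i) = ∏ i ∈ s, D x hx i := by
      rw [← Finset.prod_coe_sort s, ← e.symm.prod_comp]
      exact Finset.prod_congr rfl fun i _ => (hf i).symm
    have h3 := Finset.prod_compl_mul_prod s (D x hx)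
    rw [hD2, ← h2] at h3
    rw [eq_mul_inv_of_mul_eq h3, show g - (r + 1) = g - 1 - r by omega] at h1
    convert h1 using 1
    simp only [mul_comm, mul_left_comm, mul_assoc]
  obtain ⟨i, hi⟩ := S.irr (g - 1 - r) _ Fam (by
    rintro (x | p)
    · exact T.cl _ _
    · exact hinv _ (T.cl _ _)) hcov
  rcases i with x | ⟨x, f⟩
  · exact hnotall x.1 fun y hy => (hBad _ _).2 (hi hy)
  -- the conclusion
  set m := cT x.1 * (∏ i, Dx x.1 (f i))⁻¹
  refine hn3 ⟨T.kap * c * m⁻¹, fun v hv => ?_⟩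
  rw [hr']
  have h1 : ∀ y ∈ S.W (g - 1 - r), y * (v⁻¹ * (T.kap * c * m⁻¹)) ∈ S.W (g - 1) := fun y hy => by
    have h2 := T.mul (T.mono hr1 hv) (hi hy : y⁻¹ * m ∈ T.W (g - 1 - r))
    rw [show r + (g - 1 - r) = g - 1 by omega, T.symm] at h2
    rw [hc']
    convert h2 using 1
    simp only [mul_inv, inv_inv]
    rw [show y * (v⁻¹ * (T.kap * c * m⁻¹)) * c⁻¹ = T.kap * (v⁻¹ * (y * m⁻¹)) * (c * c⁻¹) by
      simp only [mul_comm, mul_left_comm, mul_assoc], mul_inv_cancel, mul_one]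
    simp only [m, mul_inv, inv_inv]
  have := (S.sub_iff (g - 1 - r) (Nat.sub_le _ _) _).1 h1
  rwa [Nat.sub_sub_self (show r ≤ g - 1 by omega)] at this

/-- Torelli's theorem for the sets of points. -/
theorem combi (hinv : ∀ F, Cl F → Cl {y | y⁻¹ ∈ F}) (S T : Sys Cl g) (hg : 2 ≤ g) {c : A}
    (hc : ∀ z, z ∈ T.W (g - 1) ↔ z * c ∈ S.W (g - 1)) :
    SubTr S T 0 ∨ SubTrInv S T 0 ∨ SubTr T S 0 ∨ SubTrInv T S 0 := by
  let Q : ℕ → Prop := fun r => SubTr S T r ∨ SubTrInv S T r ∨ SubTr T S r ∨ SubTrInv T S r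
  have hQ : Q (g - 2) := Or.inl ⟨c, fun z hz => by
    rw [show g - 2 + 1 = g - 1 by omega, ← hc]
    exact T.mono (by omega) hz⟩
  have hex : ∃ r, Q r := ⟨_, hQ⟩
  by_contra h0
  have hr1 : 1 ≤ Nat.find hex := Nat.pos_of_ne_zero fun h => h0 (h ▸ Nat.find_spec hex : Q 0)
  have hr : Nat.find hex ≤ g - 2 := Nat.find_min' hex hQ
  have hmin : ¬ Q (Nat.find hex - 1) := Nat.find_min hex (by omega)
  simp only [Q, not_or] at hmin
  obtain ⟨m1, m2, m3, m4⟩ := hmin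
  have hc' : ∀ z, z ∈ S.W (g - 1) ↔ z * c⁻¹ ∈ T.W (g - 1) := fun z => by rw [hc, inv_mul_cancel_right]
  -- inverting the curve
  have flipTr : ∀ (U V : Sys Cl g) r, SubTr (U.inv hinv) V r ↔ SubTrInv U V r := fun U V r => by
    constructor <;> rintro ⟨a, ha⟩ <;> refine ⟨a⁻¹, fun z hz => ?_⟩
    · have : (z * a)⁻¹ ∈ U.W (r + 1) := ha z hz
      rwa [mul_inv] at this
    · show (z * a⁻¹)⁻¹ ∈ U.W (r + 1)
      rw [mul_inv, inv_inv]
      exact ha z hz
  have flipTr' : ∀ (U V : Sys Cl g) r, SubTr V (U.inv hinv) r ↔ SubTrInv V U r := fun U V r => by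
    constructor <;> rintro ⟨a, ha⟩ <;> refine ⟨a, fun z hz => ?_⟩
    · exact ha z⁻¹ (show z⁻¹⁻¹ ∈ U.W 1 by rwa [inv_inv])
    · simpa using ha z⁻¹ hz
  have flipInv : ∀ (U V : Sys Cl g) r, SubTrInv (U.inv hinv) V r ↔ SubTr U V r := fun U V r => by
    constructor <;> rintro ⟨a, ha⟩ <;> refine ⟨a⁻¹, fun z hz => ?_⟩
    · have : (z⁻¹ * a)⁻¹ ∈ U.W (r + 1) := ha z hz
      rwa [mul_inv, inv_inv] at this
    · show (z⁻¹ * a⁻¹)⁻¹ ∈ U.W (r + 1)
      rw [mul_inv, inv_inv, inv_inv]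
      exact ha z hz
  have hcinv : ∀ (U V : Sys Cl g) (d : A), (∀ z, z ∈ V.W (g - 1) ↔ z * d ∈ U.W (g - 1)) →
      ∀ z, z ∈ V.W (g - 1) ↔ z * (d * U.kap⁻¹) ∈ (U.inv hinv).W (g - 1) := fun U V d h z => by
    show _ ↔ (z * (d * U.kap⁻¹))⁻¹ ∈ U.W (g - 1)
    rw [h z, U.symm (z * d), ← mul_assoc z, mul_inv (z * d), inv_inv, mul_comm]
  rcases Nat.find_spec hex with h | h | h | h
  · exact core hinv S T hc hr1 hr h m3 m1 m2
  · exact core hinv (S.inv hinv) T (hcinv S T c hc) hr1 hr ((flipTr _ _ _).2 h) (fun h' => m4 ((flipTr' _ _ _).1 h'))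
      (fun h' => m2 ((flipTr _ _ _).1 h')) (fun h' => m1 ((flipInv _ _ _).1 h'))
  · exact core hinv T S hc' hr1 hr h m1 m3 m4
  · exact core hinv (T.inv hinv) S (hcinv T S c⁻¹ hc') hr1 hr ((flipTr _ _ _).2 h) (fun h' => m2 ((flipTr' _ _ _).1 h'))
      (fun h' => m4 ((flipTr _ _ _).1 h')) (fun h' => m3 ((flipInv _ _ _).1 h'))

end Groth.Agent.Torelli22
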