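import Groth.Agent.Lib.Torelli22.System
import Groth.Agent.Lib.Riemann22.Principal
import Groth.Agent.Lib.JacPts22.AbelImm

/-!
# Curves with the same image in an abelian variety
-/

set_option autoImplicit false
set_option linter.style.haveILetI false
set_option linter.unusedSectionVars false
set_option backward.isDefEq.respectTransparency false
set_option backward.isDefEq.respectTransparency.types false
set_option maxHeartbeats 1000000

universe u

open CategoryTheory CategoryTheory.Limits AlgebraicGeometry TopologicalSpace Opposite MonoidalCategory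
  CartesianMonoidalCategory MonObj

noncomputable section

namespace Groth.Agent.Torelli22

/-- Transport of a system along an isomorphism of groups. -/
def Sys.map {A A' : Type u} [CommGroup A] [CommGroup A'] {Cl : Set A → Prop} {Cl' : Set A' → Prop} {g : ℕ}
    (e : A' ≃* A) (h : ∀ F, Cl F → Cl' (e ⁻¹' F)) (h' : ∀ F, Cl' F → Cl (e.symm ⁻¹' F))
    (S : Sys Cl g) :
    Sys Cl' g where
  W n := e ⁻¹' S.W n
  kap := e.symm S.kap
  one n := by simpa using S.one n
  mul {m n z t} hz ht := by
    show e (z * t) ∈ S.W (m + n)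
    rw [map_mul]
    exact S.mul hz ht
  sub_iff r hr t := by
    refine Iff.trans ⟨fun H z hz => ?_, fun H z hz => ?_⟩ (S.sub_iff r hr (e t))
    · have : e (e.symm z * t) ∈ S.W (g - 1) := H (e.symm z) (show e (e.symm z) ∈ S.W r by rwa [e.apply_symm_apply])
      rwa [map_mul, e.apply_symm_apply] at this
    · show e (z * t) ∈ S.W (g - 1)
      rw [map_mul]
      exact H _ hz
  symm z := by
    show e z ∈ S.W (g - 1) ↔ e (e.symm S.kap * z⁻¹) ∈ S.W (g - 1)
    rw [map_mul, e.apply_symm_apply, map_inv]
    exact S.symm _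
  inter r hr x hx y hy u hu H := by
    have H' : e u * ((e x)⁻¹ * e y) ∈ S.W (g - 1) := by rw [← map_inv, ← map_mul, ← map_mul]; exact H
    rcases S.inter r hr _ hx _ hy _ hu H' with h1 | h1 | h1
    · refine Or.inl fun u' hu' => ?_
      have := h1 _ hu'
      rw [← map_inv, ← map_mul, ← map_mul] at this
      exact this
    · refine Or.inr (Or.inl ?_)
      rw [← map_inv, ← map_mul] at h1
      exact h1
    · refine Or.inr (Or.inr fun x' hx' => ?_)
      have := h1 _ hx'
      rw [← map_inv, ← map_mul, ← map_mul] at this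
      exact this
  div d hd := by
    obtain ⟨D, hD1, hD2, hD3⟩ := S.div (e d) fun H => hd fun z hz => by
      show e (z * d) ∈ S.W (g - 1)
      rw [map_mul]
      exact H _ hz
    refine ⟨fun i => e.symm (D i), fun i => by simpa using hD1 i, ?_, fun z hz => ?_⟩
    · rw [← map_prod, hD2, map_mul, map_inv, e.symm_apply_apply]
    · show e (z * d) ∈ S.W (g - 1) ↔ _
      rw [map_mul, hD3 _ hz]
      exact exists_congr fun i => e.eq_symm_apply.symm
  infinite := S.infinite.preimage (by simp [e.surjective.range_eq])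
  cl n c := by
    convert h _ (S.cl n (e c)) using 1
    ext y
    show e (y * c) ∈ S.W n ↔ e y * e c ∈ S.W n
    rw [map_mul]
  irr n I _ F hF hcov := by
    obtain ⟨i, hi⟩ := S.irr n I (fun i => e.symm ⁻¹' F i) (fun i => h' _ (hF i)) fun z hz =>
      hcov (e.symm z) (by simpa using hz)
    exact ⟨i, fun z hz => by simpa using hi hz⟩

variable {k : Type u} [Field k] [IsAlgClosed k]

theorem surjective_of_isClosedImmersion {C C' : Scheme.{u}} [IsIntegral C] [IsIntegral C'] (h : C' ⟶ C)
    [IsClosedImmersion h] (hC : topologicalKrullDim C = 1) (hne : ∃ a b : C', a ≠ b ∧ IsClosed ({a} : Set C')) :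
    Set.range h.base = Set.univ := by
  by_contra hn
  obtain ⟨a, b, hab, ha⟩ := hne
  have hemb := h.isClosedEmbedding
  let I₀ : IrreducibleCloseds C :=
    ⟨{h.base a}, isIrreducible_singleton, by simpa using hemb.isClosedMap _ ha⟩
  let I₁ : IrreducibleCloseds C := ⟨Set.range h.base, by
    rw [← Set.image_univ]
    exact (IrreducibleSpace.isIrreducible_univ (X := C')).image _ h.continuous.continuousOn, hemb.isClosed_range⟩
  let I₂ : IrreducibleCloseds C := ⟨Set.univ, IrreducibleSpace.isIrreducible_univ _, isClosed_univ⟩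
  have h01 : I₀ < I₁ := by
    refine lt_of_le_of_ne ?_ ?_
    · exact Set.singleton_subset_iff.2 ⟨a, rfl⟩
    · intro e
      have hb : h.base b ∈ (I₀ : Set C) := by rw [e]; exact ⟨b, rfl⟩
      exact hab (hemb.injective hb).symm
  have h12 : I₁ < I₂ := lt_of_le_of_ne (Set.subset_univ _) fun e => hn (congrArg (fun I : IrreducibleCloseds C => (I : Set C)) e)
  have h := Order.LTSeries.length_le_krullDim (((RelSeries.singleton _ I₀).snoc I₁ h01).snoc I₂ (by simpa using h12))
  rw [show Order.krullDim (IrreducibleCloseds C) = 1 from hC] at h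
  simp at h

variable {J : Over (Spec (CommRingCat.of k))} [IsSeparated J.hom]
  {C C' : Scheme.{u}} [C.Over (Spec (CommRingCat.of k))] [C'.Over (Spec (CommRingCat.of k))]
  [IsProper (C ↘ Spec (CommRingCat.of k))] [IsProper (C' ↘ Spec (CommRingCat.of k))] [IsIntegral C] [IsIntegral C']

theorem exists_iso_of_mem (hC : topologicalKrullDim C = 1)
    (hne : ∃ a b : C', a ≠ b ∧ IsClosed ({a} : Set C'))
    (F : Over.mk (C ↘ Spec (CommRingCat.of k)) ⟶ J) (G : Over.mk (C' ↘ Spec (CommRingCat.of k)) ⟶ J)
    [IsClosedImmersion F.left] [IsClosedImmersion G.left]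
    (h : ∀ x : 𝟙_ (Over (Spec (CommRingCat.of k))) ⟶ Over.mk (C' ↘ Spec (CommRingCat.of k)),
      CurvePts22.pt (x ≫ G).left ∈ Set.range F.left.base) :
    ∃ α : C ≅ C', ∃ hα : α.hom ≫ (C' ↘ Spec (CommRingCat.of k)) = (C ↘ Spec (CommRingCat.of k)),
      Over.homMk α.hom hα ≫ G = F := by
  haveI : IsProper (Over.mk (C' ↘ Spec (CommRingCat.of k))).hom := ‹IsProper (C' ↘ Spec (CommRingCat.of k))›
  have hFc := F.left.isClosedEmbedding.isClosed_range
  have hsub : Set.range G.left.base ⊆ Set.range F.left.base := JacPts22.range_subset G hFc h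
  haveI : IsIntegral (Over.mk (C ↘ Spec (CommRingCat.of k))).left := ‹IsIntegral C›
  haveI : IsIntegral (Over.mk (C' ↘ Spec (CommRingCat.of k))).left := ‹IsIntegral C'›
  have hle : F.left.ker ≤ G.left.ker := by
    rw [SchImage.ker_eq_vanishingIdeal, SchImage.ker_eq_vanishingIdeal]
    exact Scheme.IdealSheafData.vanishingIdeal_antimono (closure_mono hsub)
  let h' := IsClosedImmersion.lift F.left G.left hle
  have hh : h' ≫ F.left = G.left := IsClosedImmersion.lift_fac _ _ hle
  haveI : IsClosedImmersion (h' ≫ F.left) := hh.symm ▸ ‹IsClosedImmersion G.left›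
  haveI : IsClosedImmersion h' := IsClosedImmersion.of_comp h' F.left
  have hsur := surjective_of_isClosedImmersion h' hC hne
  have hle' : G.left.ker ≤ F.left.ker := by
    rw [SchImage.ker_eq_vanishingIdeal, SchImage.ker_eq_vanishingIdeal]
    refine Scheme.IdealSheafData.vanishingIdeal_antimono (closure_mono ?_)
    rintro _ ⟨q, rfl⟩
    obtain ⟨p, rfl⟩ := Set.eq_univ_iff_forall.1 hsur q
    exact ⟨p, by rw [← hh]; rfl⟩
  let f := IsClosedImmersion.lift G.left F.left hle'
  have hf : f ≫ G.left = F.left := IsClosedImmersion.lift_fac _ _ hle'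
  have hα : f ≫ (C' ↘ Spec (CommRingCat.of k)) = (C ↘ Spec (CommRingCat.of k)) := by
    have h1 : G.left ≫ J.hom = (C' ↘ Spec (CommRingCat.of k)) := Over.w G
    have h2 : F.left ≫ J.hom = (C ↘ Spec (CommRingCat.of k)) := Over.w F
    rw [← h1, ← Category.assoc, hf, h2]
  exact ⟨⟨f, h', by rw [← cancel_mono F.left, Category.assoc, hh, hf, Category.id_comp],
    by rw [← cancel_mono G.left, Category.assoc, hf, hh, Category.id_comp]⟩, hα, Over.OverMorphism.ext hf⟩

end Groth.Agent.Torelli22
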