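import Groth.Agent.Lib.Torelli22.Points

/-!
# A sum-preserving involution of points gives a pencil of degree two
-/

set_option autoImplicit false
set_option linter.style.haveILetI false
set_option linter.unusedSectionVars false
set_option backward.isDefEq.respectTransparency false
set_option backward.isDefEq.respectTransparency.types false

universe u

open CategoryTheory CategoryTheory.Limits AlgebraicGeometry TopologicalSpace Opposite

noncomputable section

namespace Groth.Agent.Torelli22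

open Groth.Agent.CurveCoh17 Groth.Agent.Abel10 Groth.Agent.CurvePts22

noncomputable local instance instLawTorelliHyper (Y : Scheme.{u}) : PicGrp.Law Y := M2.law Y

variable {k : Type u} [Field k] [IsAlgClosed k] {C : Scheme.{u}} [C.Over (Spec (CommRingCat.of k))]
  [IsProper (C ↘ Spec (CommRingCat.of k))] [Smooth (C ↘ Spec (CommRingCat.of k))] [IsIntegral C]
  (hdim : topologicalKrullDim C = 1)
include hdim

theorem exists_g12 (hg : 1 ≤ Curv2.genus k C) (x : Pts k C) (b : Pts k C → Pts k C)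
    (hrel : ∀ y y' : Pts k C, P hdim y * P hdim (b y) = P hdim y' * P hdim (b y')) :
    ∃ L : C.Modules, PicF.IsInvertible L ∧ Curv2.deg k C L 1 = 2 ∧ Module.finrank k (Coh.HH C L 0) = 2 := by
  obtain ⟨hX, h0, -⟩ := CurvePts22.setup hdim x.1 x.2
  haveI := hX.like.noetherian
  haveI : JacobsonSpace C := LocallyOfFiniteType.jacobsonSpace (C ↘ Spec (CommRingCat.of k))
  let U : Set C := {pt x.1}ᶜ ∩ {pt (b x).1}ᶜ
  have hne : U.Nonempty := ⟨genericPoint C,
    fun h => CurveCoh17.genericPoint_ne_of_isClosed hdim (isClosed_pt x.1 x.2) (Set.mem_singleton_iff.1 h),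
    fun h => CurveCoh17.genericPoint_ne_of_isClosed hdim (isClosed_pt (b x).1 (b x).2) (Set.mem_singleton_iff.1 h)⟩
  have hUo : IsOpen U := (isClosed_pt x.1 x.2).isOpen_compl.inter (isClosed_pt (b x).1 (b x).2).isOpen_compl
  obtain ⟨Q, ⟨hQ1, hQ2⟩, hQ⟩ := nonempty_inter_closedPoints hne hUo.isLocallyClosed
  let y : Pts k C := ⟨pointOfClosedPoint _ Q hQ, pointOfClosedPoint_comp _ Q hQ⟩
  have hyQ : pt y.1 = Q := pointOfClosedPoint_apply (C ↘ Spec (CommRingCat.of k)) Q hQ _
  have h1 : y ≠ x := fun h => hQ1 (by rw [← hyQ, h]; rfl)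
  have h2 : y ≠ b x := fun h => hQ2 (by rw [← hyQ, h]; rfl)
  obtain ⟨A, hA, hcA, hdA⟩ := exists_bundle hdim x
  obtain ⟨B, hB, hcB, hdB⟩ := exists_bundle hdim (b x)
  obtain ⟨D, hD, hcD, -⟩ := exists_bundle hdim (b y)
  have hM := M2.isInvertible_tensor hA hB
  have hdM : Curv2.deg k C (CohB1.tensorMod A B) 1 = 2 := by
    rw [hX.like.deg_tensor_invertible hA hB, hdA, hdB]; norm_num
  obtain ⟨-, hgA⟩ := bundle_sections hdim hg x hA hcA y h1
  obtain ⟨-, hgB⟩ := bundle_sections hdim hg (b x) hB hcB y h2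
  simp only [goodOpen, Opens.mem_iSup] at hgA hgB
  obtain ⟨s, hs⟩ := hgA
  obtain ⟨s', hs'⟩ := hgB
  rw [Amp.mem_genLocus_iff hA, Amp.gval_secHom] at hs
  rw [Amp.mem_genLocus_iff hB, Amp.gval_secHom] at hs'
  have hdrop := h0_drop_of_mem hdim y.1 y.2 hM ((mem_goodOpen_iff hM _).2 (exists_span_tensor (pt y.1) hs hs'))
  have hIy := isInvertible_point hdim y.1 y.2
  obtain ⟨i⟩ : Nonempty (CohB1.tensorMod (CohB1.tensorMod A B) (ClSub.idealMod y.1.ker) ≅ D) := by
    refine (PicGrp.cls_eq_cls_iff (M2.isInvertible_tensor hM hIy) hD).1 ?_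
    rw [← AlgEquiv22.cls_tensor hM hIy, ← AlgEquiv22.cls_tensor hA hB, hcA, hcB, hcD, ← mul_inv]
    show (P hdim x * P hdim (b x))⁻¹ * P hdim y = _
    rw [hrel x y, mul_inv, mul_comm (P hdim y)⁻¹, mul_assoc, inv_mul_cancel, mul_one]
  obtain ⟨z, hz⟩ : ∃ z : Pts k C, z ≠ b y := by
    by_cases h : x = b y
    · exact ⟨y, fun h' => h1 (h'.trans h.symm)⟩
    · exact ⟨x, h⟩
  obtain ⟨hposD, -⟩ := bundle_sections hdim hg (b y) hD hcD z hz
  rw [← (hequiv k i 0).finrank_eq] at hposD
  have hle := hX.like.h0_le_deg_add (rkOne_of_invertible hdim.le hM)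
    (Module.nontrivial_of_finrank_pos (R := k) (M := Coh.HH C (CohB1.tensorMod A B) 0) (by omega))
  rw [hdM, h0] at hle
  refine ⟨_, hM, hdM, ?_⟩
  by_contra hne2
  have := hX.like.genus_eq_zero_of_h0_eq_deg_add_one h0 hM (by rw [hdM]; omega) (by rw [hdM]; norm_num)
  omega

end Groth.Agent.Torelli22
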