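import Groth.Agent.Lib.Abel10.CurvePts
import Groth.Agent.Lib.Abel10.FieldPt
import Groth.Agent.Lib.AgPol22.Lambda
import Groth.Prelude.Def_Jac

/-!
# Relations between values of an Abel map and divisor classes
-/

set_option autoImplicit false
set_option linter.style.haveILetI false
set_option linter.unusedSectionVars false
set_option backward.isDefEq.respectTransparency false
set_option backward.isDefEq.respectTransparency.types false

universe u

open CategoryTheory CategoryTheory.Limits AlgebraicGeometry TopologicalSpace Opposite MonoidalCategory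
  CartesianMonoidalCategory MonObj

noncomputable section

namespace Groth.Agent.Torelli22

open Groth.Agent.CurveCoh17 Groth.Agent.Abel10

noncomputable local instance instLawTorelliJac (Y : Scheme.{u}) : PicGrp.Law Y := M2.law Y

variable {k : Type u} [Field k] [IsAlgClosed k] {C : Scheme.{u}} [C.Over (Spec (CommRingCat.of k))]
  [IsProper (C ↘ Spec (CommRingCat.of k))] [Smooth (C ↘ Spec (CommRingCat.of k))]
  [GeometricallyConnected (C ↘ Spec (CommRingCat.of k))] [IsIntegral C]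

local notation "pC" => C ↘ Spec (CommRingCat.of k)
local notation "PD" => ModFun.PicDeg (C ↘ Spec (CommRingCat.of k)) 0

variable (hdim : topologicalKrullDim C = 1)
include hdim

/-- Families of degree zero are stable under tensor products. -/
theorem ok_tensor (T : Over (Spec (CommRingCat.of k))) (L M : (PicF.XT pC T).Modules)
    (hL : (PD).ok T L) (hM : (PD).ok T M) : (PD).ok T (CohB1.tensorMod L M) := by
  obtain ⟨⟨-, hL1⟩, hLd⟩ := hL
  obtain ⟨⟨-, hM1⟩, hMd⟩ := hM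
  have hLi := (M2.isInvertible_iff_isFinLocFreeOfRank_one L).2 hL1
  have hMi := (M2.isInvertible_iff_isFinLocFreeOfRank_one M).2 hM1
  refine ⟨⟨trivial, (M2.isInvertible_iff_isFinLocFreeOfRank_one _).1 (M2.isInvertible_tensor hLi hMi)⟩,
    fun Ω _ _ t => ?_⟩
  let W : Over (Spec (CommRingCat.of k)) := Over.mk (t ≫ T.hom)
  let g : W ⟶ T := Over.homMk t rfl
  let Z := PicF.XT pC W
  letI : Z.Over (Spec (CommRingCat.of Ω)) := ⟨PicF.XTproj pC W⟩
  show Curv2.deg Ω Z ((Scheme.Modules.pullback (PicF.XTmap pC g)).obj (CohB1.tensorMod L M)) 1 = 0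
  have hpb : IsPullback (pullback.fst pC W.hom) (Z ↘ Spec (CommRingCat.of Ω)) pC W.hom :=
    IsPullback.of_hasPullback _ _
  have hd : topologicalKrullDim Z = 1 := topologicalKrullDim_fieldPt hpb (by
    intro s
    haveI : Subsingleton ↥(Spec (CommRingCat.of k)) := inferInstanceAs (Subsingleton (PrimeSpectrum k))
    have hu : (pC).base ⁻¹' {s} = Set.univ := Set.eq_univ_of_forall fun x => Subsingleton.elim _ _
    exact ((((pC).fiberHomeo s).trans (Homeomorph.setCongr hu)).trans (Homeomorph.Set.univ C)).isHomeomorph.topologicalKrullDim_eq.trans hdim)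
  haveI : IsProper (Z ↘ Spec (CommRingCat.of Ω)) := inferInstanceAs (IsProper (pullback.snd pC W.hom))
  have hX := VB17.curveLike (k := Ω) hd
  have hpL := PicLoc.isInvertible_pullback (PicF.XTmap pC g) hLi
  have hpM := PicLoc.isInvertible_pullback (PicF.XTmap pC g) hMi
  have hcl : PicGrp.cls _ (PicLoc.isInvertible_pullback (PicF.XTmap pC g) (M2.isInvertible_tensor hLi hMi)) =
      PicGrp.cls _ (M2.isInvertible_tensor hpL hpM) := by
    rw [← AlgEquiv22.cls_tensor hpL hpM, ← PicGrp.pullHom_cls (PicF.XTmap pC g) (M2.pullMul _) _ hLi,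
      ← PicGrp.pullHom_cls (PicF.XTmap pC g) (M2.pullMul _) _ hMi, ← map_mul, AlgEquiv22.cls_tensor hLi hMi,
      PicGrp.pullHom_cls]
  obtain ⟨e⟩ := (PicGrp.cls_eq_cls_iff _ _).1 hcl
  rw [CurveCoh17.deg_iso e, hX.deg_tensor_invertible hpL hpM]
  have h1 : Curv2.deg Ω Z ((Scheme.Modules.pullback (PicF.XTmap pC g)).obj L) 1 = 0 := hLd Ω t
  have h2 : Curv2.deg Ω Z ((Scheme.Modules.pullback (PicF.XTmap pC g)).obj M) 1 = 0 := hMd Ω t
  rw [h1, h2, add_zero]

/-- Pull backs of families of degree zero have degree zero. -/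
theorem ok_pull {T T' : Over (Spec (CommRingCat.of k))} (h : T' ⟶ T) (L : (PicF.XT pC T).Modules)
    (hL : (PD).ok T L) : (PD).ok T' ((PD).pull h L) := by
  obtain ⟨⟨-, hL1⟩, hLd⟩ := hL
  have hLi := (M2.isInvertible_iff_isFinLocFreeOfRank_one L).2 hL1
  refine ⟨⟨trivial, (M2.isInvertible_iff_isFinLocFreeOfRank_one _).1 (PicLoc.isInvertible_pullback _ hLi)⟩,
    fun Ω _ _ t => ?_⟩
  have e : (t ≫ h.left) ≫ T.hom = t ≫ T'.hom := by rw [Category.assoc, Over.w h]
  have key : ∀ (s : Spec (CommRingCat.of Ω) ⟶ Spec (CommRingCat.of k)) (g : Over.mk s ⟶ T)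
      (hs : (t ≫ h.left) ≫ T.hom = s), g.left = t ≫ h.left →
      letI : (PicF.XT pC (Over.mk s)).Over (Spec (CommRingCat.of Ω)) := ⟨PicF.XTproj pC (Over.mk s)⟩
      Curv2.deg Ω (PicF.XT pC (Over.mk s)) ((Scheme.Modules.pullback (PicF.XTmap pC g)).obj L) 1 = 0 := by
    rintro s g rfl hg
    rw [show g = Over.homMk (t ≫ h.left) rfl from Over.OverMorphism.ext hg]
    exact hLd Ω (t ≫ h.left)
  letI : (PicF.XT pC (Over.mk (t ≫ T'.hom))).Over (Spec (CommRingCat.of Ω)) := ⟨PicF.XTproj pC _⟩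
  show Curv2.deg Ω _ ((Scheme.Modules.pullback (PicF.XTmap pC (Over.homMk t rfl : Over.mk (t ≫ T'.hom) ⟶ T'))).obj
    ((Scheme.Modules.pullback (PicF.XTmap pC h)).obj L)) 1 = 0
  have hm : PicF.XTmap pC (Over.homMk t rfl : Over.mk (t ≫ T'.hom) ⟶ T') ≫ PicF.XTmap pC h =
      PicF.XTmap pC ((Over.homMk t rfl : Over.mk (t ≫ T'.hom) ⟶ T') ≫ h) := by
    apply pullback.hom_ext <;> simp [PicF.XTmap]
  exact (CurveCoh17.deg_iso ((Scheme.Modules.pullbackComp _ _).app L ≪≫
    (Scheme.Modules.pullbackCongr hm).app L)).trans (key _ _ e rfl)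

omit hdim in
/-- The slice of a family at a rational point, as a class on the curve. -/
def slice (x : Spec (CommRingCat.of k) ⟶ C) (hx : x ≫ pC = 𝟙 _) :
    PicLoc.PicSet (pullback pC pC) →* PicLoc.PicSet C :=
  PicGrp.pullHom (Pic13.sliceAt k C pC x hx) (M2.pullMul _)

/-- The slice of an Abel–Jacobi family. -/
theorem slice_ajFamily (σ : Spec (CommRingCat.of k) ⟶ C) (hσ : σ ≫ pC = 𝟙 _)
    {L : (PicF.XT pC (Over.mk pC)).Modules} (hL : Jac.IsAJFamilyAt pC σ L)
    (x : Spec (CommRingCat.of k) ⟶ C) (hx : x ≫ pC = 𝟙 _) :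
    slice x hx (PicGrp.cls L hL.1) * ptCls hdim x hx = ptCls hdim σ hσ := by
  haveI := CurveCartier25.smoothOfRelativeDimension_one pC hdim
  haveI := smoothOfRelativeDimension_isStableUnderBaseChange 1
  haveI : SmoothOfRelativeDimension 1 (pullback.snd pC pC) :=
    MorphismProperty.of_isPullback (P := @SmoothOfRelativeDimension 1) (IsPullback.of_hasPullback pC pC) inferInstance
  have hJ : BlowUp.IsEffCartierIdeal (pullback.diagonal pC).ker :=
    (S15990.result (pullback.snd pC pC) (pullback.diagonal pC) (pullback.diagonal_snd pC)).1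
  have hI := M2.isInvertible_idealMod _ hJ
  obtain ⟨D, hD, ⟨eD⟩⟩ := M2.exists_inverse hI
  obtain ⟨s, hs⟩ := exists_locEq hJ hD (M2.tensorComm _ _ ≪≫ eD)
  have hΔ : slice x hx (PicGrp.cls _ hI) = ptCls hdim x hx := by
    haveI : IsClosedImmersion x := by
      haveI : IsClosedImmersion (x ≫ pC) := by rw [hx]; infer_instance
      exact IsClosedImmersion.of_comp x pC
    have sq : IsPullback x x (pullback.diagonal pC) (Pic13.sliceAt k C pC x hx) := by
      refine IsPullback.of_bot ?_ ?_ (NumPoly18.isPullback_sliceAt pC x hx)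
      · rw [pullback.diagonal_snd]
        show IsPullback x (x ≫ pC) (𝟙 C) x
        rw [hx]
        exact IsPullback.of_vert_isIso ⟨by simp⟩
      · apply pullback.hom_ext <;> simp [Pic13.sliceAt, reassoc_of% hx]
    have h1 : slice x hx (PicGrp.cls D hD) = (ptCls hdim x hx)⁻¹ := by
      rw [slice, PicGrp.pullHom_cls]
      exact eq_inv_of_mul_eq_one_left ((PicGrp.cls_mul_cls_eq_one_iff _ _).2
        (nonempty_iso_of_locEq (isEffCartierIdeal_point hdim x hx) (PicLoc.isInvertible_pullback _ hD) (hs.pullback sq)))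
    have h2 : PicGrp.cls _ hI * PicGrp.cls D hD = 1 := (PicGrp.cls_mul_cls_eq_one_iff _ _).2 ⟨eD⟩
    have h3 := congrArg (slice x hx) h2
    rw [map_mul, map_one, h1, mul_inv_eq_one] at h3
    exact h3
  obtain ⟨e⟩ := hL.2
  have hσI := isInvertible_point hdim σ hσ
  have h4 : (PicGrp.cls (Y := pullback pC pC) L hL.1) * PicGrp.cls _ hI =
      PicGrp.pullHom (pullback.fst pC pC) (M2.pullMul _) (PicGrp.cls _ hσI) := by
    rw [AlgEquiv22.cls_tensor hL.1 hI, PicGrp.pullHom_cls]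
    exact (PicGrp.cls_eq_cls_iff _ _).2 ⟨e⟩
  have h5 := congrArg (slice x hx) h4
  rw [map_mul, hΔ] at h5
  refine h5.trans ?_
  rw [slice, ← PicGrp.pullHom_comp_apply _ _ _ _ (M2.pullMul _)]
  exact (PicGrp.pullHom_cls _ _ _ hσI).trans ((PicGrp.cls_eq_cls_iff _ _).2
    ⟨(Scheme.Modules.pullbackCongr (pullback.lift_fst _ _ _)).app _ ≪≫ (Scheme.Modules.pullbackId C).app _⟩)

/-- Equal sums of Abel-map values give equal products of divisor classes. -/
theorem abel_rel (σ : Spec (CommRingCat.of k) ⟶ C) (hσ : σ ≫ pC = 𝟙 _)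
    (J : Over (Spec (CommRingCat.of k))) [GrpObj J] (ψ : (PD).Hom ⊤ J) (hJ : Jac.IsJacobian pC ⊤ J ψ)
    (j : Over.mk pC ⟶ J) (hj : Jac.IsAbelJacobiAt pC σ ψ j)
    (x₁ x₂ x₃ x₄ : 𝟙_ (Over (Spec (CommRingCat.of k))) ⟶ Over.mk pC)
    (h : (x₁ ≫ j) * (x₂ ≫ j) = (x₃ ≫ j) * (x₄ ≫ j)) :
    ptCls hdim x₁.left (Over.w x₁) * ptCls hdim x₂.left (Over.w x₂) =
      ptCls hdim x₃.left (Over.w x₃) * ptCls hdim x₄.left (Over.w x₄) := by
  obtain ⟨hP, L, hL, hAJ, rfl⟩ := hj
  let T₀ : Over (Spec (CommRingCat.of k)) := Over.mk (𝟙 _)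
  let fam : ∀ x : T₀ ⟶ Over.mk pC, (PicF.XT pC T₀).Modules := fun x => (PD).pull x L
  have hfam : ∀ x, (PD).ok T₀ (fam x) := fun x => ok_pull hdim x L hL
  have hval : ∀ x, ψ.app T₀ (fam x) trivial (hfam x) = x ≫ ψ.app (Over.mk pC) L hP hL := fun x =>
    ψ.natural x L hP trivial hL (hfam x)
  have hten : ∀ a b, ψ.app T₀ (CohB1.tensorMod (fam a) (fam b)) trivial (ok_tensor hdim T₀ _ _ (hfam a) (hfam b)) =
      (a ≫ ψ.app (Over.mk pC) L hP hL) * (b ≫ ψ.app (Over.mk pC) L hP hL) := fun a b =>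
    (hJ.mul T₀ trivial _ _ _ (hfam a) (hfam b) _ ⟨Iso.refl _⟩).trans (by rw [hval, hval])
  have hr := (hJ.coarse.2.2 k (𝟙 _) trivial).2 _ _ (ok_tensor hdim T₀ _ _ (hfam x₁) (hfam x₂))
    (ok_tensor hdim T₀ _ _ (hfam x₃) (hfam x₄)) ((hten x₁ x₂).trans (h.trans (hten x₃ x₄).symm))
  obtain ⟨N, hN, ⟨i⟩⟩ := hr
  have hinv : ∀ x, PicF.IsInvertible (fam x) := fun x => PicLoc.isInvertible_pullback _ hAJ.1
  have hN1 : PicGrp.cls N hN = 1 :=
    (PicGrp.cls_eq_one_iff_isTrivialCl hN).2 (AbDual21.isTrivialCl_spec_field ⟨_, rfl, hN⟩)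
  let ρ : C ⟶ PicF.XT pC T₀ := pullback.lift (𝟙 C) pC (by simp [T₀])
  have hfcls : ∀ x : T₀ ⟶ Over.mk pC, PicGrp.pullHom ρ (M2.pullMul _) (PicGrp.cls (fam x) (hinv x)) =
      slice x.left (Over.w x) (PicGrp.cls L hAJ.1) := by
    intro x
    have hm : ρ ≫ PicF.XTmap pC x = Pic13.sliceAt k C pC x.left (Over.w x) := by
      apply pullback.hom_ext <;> simp [ρ, PicF.XTmap, Pic13.sliceAt, T₀]
    rw [slice, PicGrp.pullHom_cls, PicGrp.pullHom_cls]
    exact (PicGrp.cls_eq_cls_iff _ _).2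
      ⟨(Scheme.Modules.pullbackComp _ _).app L ≪≫ (Scheme.Modules.pullbackCongr hm).app L⟩
  have hcl : PicGrp.cls (fam x₃) (hinv x₃) * PicGrp.cls (fam x₄) (hinv x₄) =
      PicGrp.cls (fam x₁) (hinv x₁) * PicGrp.cls (fam x₂) (hinv x₂) := by
    have hp := PicLoc.isInvertible_pullback (PicF.XTproj pC T₀) hN
    have h1 : PicGrp.cls _ hp = 1 := by rw [← PicGrp.pullHom_cls _ (M2.pullMul _) _ hN, hN1, map_one]
    rw [AlgEquiv22.cls_tensor, AlgEquiv22.cls_tensor, ← mul_one (PicGrp.cls (CohB1.tensorMod (fam x₁) (fam x₂)) _),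
      ← h1, AlgEquiv22.cls_tensor]
    exact (PicGrp.cls_eq_cls_iff _ _).2 ⟨i⟩
  have h2 := congrArg (PicGrp.pullHom ρ (M2.pullMul _)) hcl
  rw [map_mul, map_mul, hfcls, hfcls, hfcls, hfcls] at h2
  have e : ∀ x : T₀ ⟶ Over.mk pC, slice x.left (Over.w x) (PicGrp.cls L hAJ.1) =
      ptCls hdim σ hσ * (ptCls hdim x.left (Over.w x))⁻¹ := fun x =>
    eq_mul_inv_of_mul_eq (slice_ajFamily hdim σ hσ hAJ x.left (Over.w x))
  rw [e, e, e, e, _root_.mul_mul_mul_comm, _root_.mul_mul_mul_comm (ptCls hdim σ hσ) _ (ptCls hdim σ hσ), mul_right_inj,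
    ← mul_inv, ← mul_inv, inv_inj] at h2
  exact h2.symm

end Groth.Agent.Torelli22
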