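import Groth.Agent.Lib.CurvePts22.General
import Groth.Agent.Lib.CurveCoh17.P1Apps
import Groth.Agent.Lib.CurveCoh17.RegPoint
import Groth.Agent.Lib.Abel10.CurvePts

/-!
# No nontrivial translation of points on a curve of genus at least two
-/

set_option autoImplicit false
set_option linter.style.haveILetI false
set_option linter.unusedSectionVars false
set_option backward.isDefEq.respectTransparency false
set_option backward.isDefEq.respectTransparency.types false

universe u

open CategoryTheory CategoryTheory.Limits AlgebraicGeometry TopologicalSpace Opposite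

noncomputable section

namespace Groth.Agent.Torelli22

open Groth.Agent.CurveCoh17 Groth.Agent.Abel10 Groth.Agent.CurvePts22

noncomputable local instance instLawTorelliPts (Y : Scheme.{u}) : PicGrp.Law Y := M2.law Y

variable {k : Type u} [Field k] [IsAlgClosed k] {C : Scheme.{u}} [C.Over (Spec (CommRingCat.of k))]
  [IsProper (C ↘ Spec (CommRingCat.of k))] [Smooth (C ↘ Spec (CommRingCat.of k))] [IsIntegral C]
  (hdim : topologicalKrullDim C = 1)

variable (k C) in
/-- Rational points. -/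
abbrev Pts := {x : Spec (CommRingCat.of k) ⟶ C // x ≫ (C ↘ Spec (CommRingCat.of k)) = 𝟙 _}

theorem pts_ext {x y : Pts k C} (h : pt x.1 = pt y.1) : x = y :=
  Subtype.ext (ext_of_apply_closedPoint_eq (C ↘ Spec (CommRingCat.of k)) x.2 y.2 h)

include hdim

/-- The class of the ideal of a point. -/
def P (x : Pts k C) : PicLoc.PicSet C := ptCls hdim x.1 x.2

/-- The divisor bundle of a point. -/
theorem exists_bundle (x : Pts k C) : ∃ (A : C.Modules) (hA : PicF.IsInvertible A),
    PicGrp.cls A hA = (P hdim x)⁻¹ ∧ Curv2.deg k C A 1 = 1 := by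
  obtain ⟨A, hA, ⟨e⟩⟩ := M2.exists_inverse (isInvertible_point hdim x.1 x.2)
  refine ⟨A, hA, eq_inv_of_mul_eq_one_left (b := P hdim x) ((PicGrp.cls_mul_cls_eq_one_iff hA (isInvertible_point hdim x.1 x.2)).2 ⟨M2.tensorComm _ _ ≪≫ e⟩), ?_⟩
  rw [(VB17.curveLike (k := k) hdim).deg_of_tensor_iso (isInvertible_point hdim x.1 x.2) hA e, deg_point hdim x.1 x.2]
  norm_num

theorem P_injective (hg : 1 ≤ Curv2.genus k C) {x y : Pts k C} (h : P hdim x = P hdim y) : x = y := by
  obtain ⟨hX, h0, -⟩ := CurvePts22.setup hdim x.1 x.2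
  haveI := hX.like.noetherian
  obtain ⟨A, hA, hcA, hdA⟩ := exists_bundle hdim x
  by_contra hne
  have hiso : ∀ z : Pts k C, P hdim z = P hdim x → Nonempty (CohB1.tensorMod (ClSub.idealMod
      (Scheme.IdealSheafData.vanishingIdeal (⟨{pt z.1}, isClosed_pt z.1 z.2⟩ : Closeds C))) A ≅
      Coh.structureModule C) := fun z hz => by
    rw [← ker_eq z.1 z.2, ← PicGrp.cls_mul_cls_eq_one_iff (isInvertible_point hdim z.1 z.2) hA, hcA, ← hz]
    exact mul_inv_cancel _
  obtain ⟨e₁⟩ := hiso x rfl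
  obtain ⟨e₂⟩ := hiso y h.symm
  have h2 := hX.like.two_le_h0_of_two_points _ _ (fun hp => hne (pts_ext hp)) hA e₁ e₂
  have hR := rkOne_of_invertible hdim.le hA
  have h3 := hX.like.h0_le_deg_add hR (Module.nontrivial_of_finrank_pos (R := k) (M := Coh.HH C A 0) (by omega))
  rw [hdA, h0] at h3
  have := hX.like.genus_eq_zero_of_h0_eq_deg_add_one h0 hA (by rw [hdA]; omega) (by rw [hdA]; norm_num)
  omega

/-- The divisor bundle of a point has a section, generating away from the point. -/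
theorem bundle_sections (hg : 1 ≤ Curv2.genus k C) (x : Pts k C) {A : C.Modules} (hA : PicF.IsInvertible A)
    (hcA : PicGrp.cls A hA = (P hdim x)⁻¹) (z : Pts k C) (hz : z ≠ x) :
    0 < Module.finrank k (Coh.HH C A 0) ∧ pt z.1 ∈ goodOpen A := by
  obtain ⟨hX, h0, -⟩ := CurvePts22.setup hdim x.1 x.2
  haveI := hX.like.noetherian
  have hIx := isInvertible_point hdim x.1 x.2
  have hIz := isInvertible_point hdim z.1 z.2
  obtain ⟨φ, hφ, -⟩ := exists_vanish_step hdim x.1 x.2 A hA
  haveI := hX.like.fin A (isCoh_of_ofRank ((M2.isInvertible_iff_isFinLocFreeOfRank_one _).1 hA)) 0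
  obtain ⟨ex⟩ : Nonempty (CohB1.tensorMod A (ClSub.idealMod x.1.ker) ≅ Coh.structureModule C) :=
    (PicGrp.cls_mul_cls_eq_one_iff hA hIx).1 (by rw [hcA]; exact inv_mul_cancel _)
  have hpos : 0 < Module.finrank k (Coh.HH C A 0) := by
    have := LinearMap.finrank_le_finrank_of_injective hφ
    rw [(hequiv k ex 0).finrank_eq, h0] at this
    omega
  refine ⟨hpos, ?_⟩
  by_contra hbad
  have heq := h0_eq_of_notMem hdim z.1 z.2 hA hbad
  have hAz := M2.isInvertible_tensor hA hIz
  have hd : Curv2.deg k C (CohB1.tensorMod A (ClSub.idealMod z.1.ker)) 1 = 0 := by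
    obtain ⟨B, hB, hcB, hdB⟩ := exists_bundle hdim x
    obtain ⟨i⟩ := (PicGrp.cls_eq_cls_iff hA hB).1 (hcA.trans hcB.symm)
    rw [hX.like.deg_tensor_invertible hA hIz, deg_iso i, hdB, deg_point hdim z.1 z.2]
    norm_num
  obtain ⟨i⟩ := (hX.like.deg_nonneg (rkOne_of_invertible hdim.le hAz)
    (Module.nontrivial_of_finrank_pos (R := k) (M := Coh.HH C (CohB1.tensorMod A (ClSub.idealMod z.1.ker)) 0)
      (by omega))).2 hd
  have h1 := (PicGrp.cls_eq_one_iff hAz).2 ⟨i⟩
  rw [← AlgEquiv22.cls_tensor hA hIz, hcA] at h1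
  exact hz (P_injective hdim hg (inv_mul_eq_one.1 h1).symm)

/-- On a curve of genus at least two no fixed-point-free injective self-map of the points preserves differences. -/
theorem no_translation (hg : 2 ≤ Curv2.genus k C) (y : Pts k C) (a : Pts k C → Pts k C) (hinj : Function.Injective a)
    (hsurj : Function.Surjective a)
    (hrel : ∀ y y' : Pts k C, P hdim (a y) * P hdim y' = P hdim y * P hdim (a y'))
    (hfix : ∀ y, a y ≠ y) : False := by
  obtain ⟨hX, h0, hbig⟩ := CurvePts22.setup hdim y.1 y.2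
  haveI := hX.like.noetherian
  obtain ⟨W, lam, hW⟩ := VB17.exists_isDualizing hX h0 hbig
  obtain ⟨A, hA, hcA, hdA⟩ := exists_bundle hdim y
  -- `h¹(O(y)) > 0`
  have hrA := hX.like.rr (isCoh_of_ofRank ((M2.isInvertible_iff_isFinLocFreeOfRank_one _).1 hA))
  rw [hdA, h0] at hrA
  obtain ⟨hposA, -⟩ := bundle_sections hdim (by omega) y hA hcA (a y) (hfix y)
  have hIy := isInvertible_point hdim y.1 y.2
  have eA : CohB1.tensorMod (ClSub.idealMod y.1.ker) A ≅ Coh.structureModule C :=
    ((PicGrp.cls_mul_cls_eq_one_iff hIy hA).1 (by rw [hcA]; exact mul_inv_cancel _)).some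
  have hA1 : Module.finrank k (Coh.HH C A 1) = Module.finrank k (Coh.HH C (CohB1.tensorMod W (ClSub.idealMod y.1.ker)) 0) :=
    hW.finrank_h1 hX h0 hbig hA hIy eA
  have hN := M2.isInvertible_tensor hW.inv hIy
  have hN0 : 0 < Module.finrank k (Coh.HH C (CohB1.tensorMod W (ClSub.idealMod y.1.ker)) 0) := by
    omega
  obtain ⟨y₁, hy₁⟩ := goodOpen_nonempty (k := k) hN hN0
  haveI : JacobsonSpace C := LocallyOfFiniteType.jacobsonSpace (C ↘ Spec (CommRingCat.of k))
  let U : Set C := (goodOpen (CohB1.tensorMod W (ClSub.idealMod y.1.ker)) : Set C) ∩ {pt (a y).1}ᶜ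
  have hUne : U.Nonempty := ⟨genericPoint C,
    ((genericPoint_spec C).mem_open_set_iff (goodOpen _).2).2 ⟨y₁, Set.mem_univ _, hy₁⟩,
    fun h => CurveCoh17.genericPoint_ne_of_isClosed hdim (isClosed_pt (a y).1 (a y).2) (Set.mem_singleton_iff.1 h)⟩
  have hUo : IsOpen U := (goodOpen _).2.inter (isClosed_pt (a y).1 (a y).2).isOpen_compl
  obtain ⟨Q, ⟨hQU, hQne⟩, hQ⟩ := nonempty_inter_closedPoints hUne hUo.isLocallyClosed
  let z : Pts k C := ⟨pointOfClosedPoint _ Q hQ, pointOfClosedPoint_comp _ Q hQ⟩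
  have hzQ : pt z.1 = Q := pointOfClosedPoint_apply (C ↘ Spec (CommRingCat.of k)) Q hQ _
  obtain ⟨y', hy'⟩ := hsurj z
  have hy'y : y' ≠ y := by rintro rfl; exact hQne (by rw [← hzQ, ← hy']; rfl)
  have hy'z : y' ≠ z := fun h => hfix y' (hy'.trans h.symm)
  obtain ⟨B, hB, hcB, hdB⟩ := exists_bundle hdim z
  let M := CohB1.tensorMod A B
  have hM : PicF.IsInvertible M := M2.isInvertible_tensor hA hB
  have hIz := isInvertible_point hdim z.1 z.2
  have hcM : PicGrp.cls M hM = (P hdim y)⁻¹ * (P hdim z)⁻¹ := by rw [← AlgEquiv22.cls_tensor hA hB, hcA, hcB]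
  -- `h⁰(M) = 1`
  have hM1 : Module.finrank k (Coh.HH C M 0) = 1 := by
    have e : CohB1.tensorMod (CohB1.tensorMod (ClSub.idealMod y.1.ker) (ClSub.idealMod z.1.ker)) M ≅
        Coh.structureModule C :=
      ((PicGrp.cls_mul_cls_eq_one_iff (M2.isInvertible_tensor hIy hIz) hM).1 (by
        rw [← AlgEquiv22.cls_tensor hIy hIz, hcM]
        show P hdim y * P hdim z * _ = 1
        rw [← mul_inv, mul_inv_cancel])).some
    have h1 := (hW.finrank_h1 hX h0 hbig hM (M2.isInvertible_tensor hIy hIz) e).trans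
      (hequiv k (M2.tensorAssoc W (ClSub.idealMod y.1.ker) (ClSub.idealMod z.1.ker)).symm 0).finrank_eq
    have hd := h0_drop_of_mem hdim z.1 z.2 hN (hzQ.symm ▸ hQU)
    have hrr := hX.like.rr (isCoh_of_ofRank ((M2.isInvertible_iff_isFinLocFreeOfRank_one _).1 hM))
    rw [hX.like.deg_tensor_invertible hA hB, hdA, hdB, h0] at hrr
    have hA0 : Module.finrank k (Coh.HH C A 0) ≤ 1 := by
      have h3 := hX.like.h0_le_deg_add (rkOne_of_invertible hdim.le hA)
        (Module.nontrivial_of_finrank_pos (R := k) (M := Coh.HH C A 0) hposA)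
      rw [hdA, h0] at h3
      by_contra hgt
      have := hX.like.genus_eq_zero_of_h0_eq_deg_add_one h0 hA (by rw [hdA]; omega) (by rw [hdA]; norm_num)
      omega
    omega
  -- `y'` is not a base point of `M`
  have hgood : pt y'.1 ∈ goodOpen M := by
    obtain ⟨-, hgA⟩ := bundle_sections hdim (by omega) y hA hcA y' hy'y
    obtain ⟨-, hgB⟩ := bundle_sections hdim (by omega) z hB hcB y' hy'z
    simp only [goodOpen, Opens.mem_iSup] at hgA hgB
    obtain ⟨s, hs⟩ := hgA
    obtain ⟨s', hs'⟩ := hgB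
    rw [Amp.mem_genLocus_iff hA, Amp.gval_secHom] at hs
    rw [Amp.mem_genLocus_iff hB, Amp.gval_secHom] at hs'
    exact (mem_goodOpen_iff hM _).2 (exists_span_tensor (pt y'.1) hs hs')
  have hdrop := h0_drop_of_mem hdim y'.1 y'.2 hM hgood
  -- but `M(-y')` is the bundle of the fourth point
  obtain ⟨D, hD, hcD, -⟩ := exists_bundle hdim (a y)
  have hIy' := isInvertible_point hdim y'.1 y'.2
  obtain ⟨i⟩ : Nonempty (CohB1.tensorMod M (ClSub.idealMod y'.1.ker) ≅ D) := by
    refine (PicGrp.cls_eq_cls_iff (M2.isInvertible_tensor hM hIy') hD).1 ?_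
    rw [← AlgEquiv22.cls_tensor hM hIy', hcM, hcD, ← mul_inv]
    show (P hdim y * P hdim z)⁻¹ * P hdim y' = _
    rw [← hy', ← hrel y y', mul_inv, mul_assoc, inv_mul_cancel, mul_one]
  obtain ⟨hposD, -⟩ := bundle_sections hdim (by omega) (a y) hD hcD y (hfix y).symm
  rw [← (hequiv k i 0).finrank_eq] at hposD
  omega

end Groth.Agent.Torelli22
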